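import Groth.Prelude.Def_W4c2quivmodsheafKron
import Mathlib.LinearAlgebra.Dual.Lemmas
import Mathlib.LinearAlgebra.FreeModule.Finite.Matrix
import Mathlib.LinearAlgebra.Matrix.ToLinearEquiv
import Mathlib.LinearAlgebra.Matrix.Polynomial
import Mathlib.LinearAlgebra.FiniteDimensional.Lemmas
import Mathlib.LinearAlgebra.Pi
import Mathlib.FieldTheory.IsAlgClosed.Basic
import Mathlib.LinearAlgebra.Eigenspace.Triangularizable
import Mathlib.Algebra.Polynomial.Roots
import Mathlib.RingTheory.Polynomial.Basic

/-!
# Semistable Kronecker modules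
-/

namespace KronLib

open KronMod Module

variable {K : Type*} [Field K] {V W : Type*} [AddCommGroup V] [Module K V] [FiniteDimensional K V]
  [AddCommGroup W] [Module K W] [FiniteDimensional K W] {n : ℕ}

/-- The sum map. -/
def sumMap (f : Fin n → (V →ₗ[K] W)) : (Fin n → V) →ₗ[K] W :=
  ∑ j, f j ∘ₗ LinearMap.proj (R := K) (φ := fun _ : Fin n => V) j

lemma sumMap_coe (f : Fin n → (V →ₗ[K] W)) : ⇑(sumMap f) = fun v => ∑ j, f j (v j) := by
  funext v
  simp [sumMap]

lemma finrank_pow (U : Type*) [AddCommGroup U] [Module K U] [FiniteDimensional K U] (n : ℕ) :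
    finrank K (Fin n → U) = n * finrank K U := by
  simp [Module.finrank_pi_fintype]

/-- The inclusion of powers. -/
def powIncl (U : Submodule K V) (n : ℕ) : (Fin n → U) →ₗ[K] (Fin n → V) :=
  LinearMap.pi fun j => U.subtype ∘ₗ LinearMap.proj j

lemma powIncl_injective (U : Submodule K V) (n : ℕ) : Function.Injective (powIncl U n) :=
  fun a b h => funext fun j => Subtype.ext (congrFun h j)

lemma semistable_iff_sum (f : Fin n → (V →ₗ[K] W)) (hV : 0 < finrank K V)
    (hW : finrank K W = n * finrank K V) :
    IsSemistable f ↔ Function.Bijective (fun v : Fin n → V => ∑ j, f j (v j)) := by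
  rw [← sumMap_coe]
  have hd : finrank K (Fin n → V) = finrank K W := by rw [finrank_pow, hW]
  constructor
  · intro h
    have hsurj : Function.Surjective (sumMap f) := by
      rw [← LinearMap.range_eq_top]
      by_contra hne
      have h2 := h.2 ⊤ (LinearMap.range (sumMap f)) (fun j => by
        rintro _ ⟨v, -, rfl⟩
        refine ⟨Pi.single j v, ?_⟩
        simp only [sumMap_coe]
        rw [Finset.sum_eq_single j (fun i _ hi => by simp [Pi.single_eq_of_ne hi]) (by simp),
          Pi.single_eq_same])
        (fun e => by have := finrank_top K V; rw [e.1, finrank_bot] at this; omega)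
        (fun e => hne e.2)
      rw [finrank_top, mul_comm] at h2
      exact hne (Submodule.eq_top_of_finrank_eq
        (le_antisymm (Submodule.finrank_le _) (Nat.le_of_mul_le_mul_left h2 hV)))
    exact ⟨(LinearMap.injective_iff_surjective_of_finrank_eq_finrank hd).mpr hsurj, hsurj⟩
  · intro h
    refine ⟨by omega, fun V' W' hs _ _ => ?_⟩
    have hmem : ∀ v, (sumMap f ∘ₗ powIncl V' n) v ∈ W' := fun v => by
      simp only [LinearMap.comp_apply, sumMap_coe]
      exact W'.sum_mem fun j _ => hs j ⟨_, (v j).2, rfl⟩
    have hle := LinearMap.finrank_le_finrank_of_injective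
      (f := (sumMap f ∘ₗ powIncl V' n).codRestrict W' hmem)
      (fun a b e => powIncl_injective V' n (h.1 (congrArg Subtype.val e)))
    rw [finrank_pow] at hle
    rw [hW, mul_comm n, mul_assoc]
    exact Nat.mul_le_mul_left _ hle

lemma semistable_iff_pi (f : Fin n → (V →ₗ[K] W)) (hW : 0 < finrank K W)
    (hV : finrank K V = n * finrank K W) :
    IsSemistable f ↔ Function.Bijective (fun v : V => fun j : Fin n => f j v) := by
  change _ ↔ Function.Bijective (LinearMap.pi f)
  have hd : finrank K V = finrank K (Fin n → W) := by rw [finrank_pow, hV]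
  constructor
  · intro h
    have hinj : Function.Injective (LinearMap.pi f) := by
      rw [← LinearMap.ker_eq_bot]
      by_contra hne
      have h2 := h.2 (LinearMap.ker (LinearMap.pi f)) ⊥ (fun j => by
        rintro _ ⟨v, hv, rfl⟩
        exact congrFun (LinearMap.mem_ker.mp hv) j)
        (fun e => hne e.1) (fun e => by have := finrank_top K W; rw [← e.2, finrank_bot] at this; omega)
      rw [finrank_bot, mul_zero, Nat.le_zero, Nat.mul_eq_zero] at h2
      exact hne (Submodule.finrank_eq_zero.mp (h2.resolve_left hW.ne'))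
    exact ⟨hinj, (LinearMap.injective_iff_surjective_of_finrank_eq_finrank hd).mp hinj⟩
  · intro h
    refine ⟨by omega, fun V' W' hs _ _ => ?_⟩
    let T : V' →ₗ[K] (Fin n → W') :=
      LinearMap.pi fun j => (f j ∘ₗ V'.subtype).codRestrict W' fun v => hs j ⟨_, v.2, rfl⟩
    have hle := LinearMap.finrank_le_finrank_of_injective (f := T)
      (fun a b e => Subtype.ext (h.1 (funext fun j => congrArg Subtype.val (congrFun e j))))
    rw [finrank_pow] at hle
    calc finrank K W * finrank K V' ≤ finrank K W * (n * finrank K W') := Nat.mul_le_mul_left _ hle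
      _ = finrank K V * finrank K W' := by rw [hV]; ring

lemma semistable_of_stable {f : Fin n → (V →ₗ[K] W)} (h : IsStable f) : IsSemistable f :=
  ⟨h.1, fun V' W' a b c => (h.2 V' W' a b c).le⟩

lemma stable_iff_sum (f : Fin n → (V →ₗ[K] W)) (hV : 0 < finrank K V)
    (hW : finrank K W = n * finrank K V) :
    IsStable f ↔ (IsSemistable f ∧ finrank K V = 1) := by
  constructor
  · intro h
    refine ⟨semistable_of_stable h, ?_⟩
    by_contra hne
    obtain ⟨v, hv⟩ : ∃ v : V, v ≠ 0 := Module.finrank_pos_iff_exists_ne_zero.mp hV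
    have hl : finrank K (K ∙ v) = 1 := finrank_span_singleton hv
    have h2 := h.2 (K ∙ v) (Submodule.span K (Set.range fun j => f j v)) (fun j => by
      rw [Submodule.map_span_le]
      rintro _ rfl
      exact Submodule.subset_span ⟨j, rfl⟩)
      (fun e => by rw [e.1, finrank_bot] at hl; omega) (fun e => hne (by rw [← hl, e.1, finrank_top]))
    have h3 : finrank K (Submodule.span K (Set.range fun j => f j v)) ≤ n := by
      simpa [Set.finrank] using finrank_range_le_card (R := K) (fun j => f j v)
    rw [hl, hW, mul_one] at h2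
    have h4 := Nat.mul_le_mul_left (finrank K V) h3
    rw [mul_comm n] at h2
    omega
  · rintro ⟨h, h1⟩
    refine ⟨h.1, fun V' W' hs hbot htop => ?_⟩
    have hle : finrank K V' ≤ 1 := h1 ▸ Submodule.finrank_le V'
    rcases Nat.le_one_iff_eq_zero_or_eq_one.mp hle with e | e
    · have hb : V' = ⊥ := Submodule.finrank_eq_zero.mp e
      have hW' : 0 < finrank K W' := Nat.pos_of_ne_zero fun e' =>
        hbot ⟨hb, Submodule.finrank_eq_zero.mp e'⟩
      rw [e, mul_zero, h1, one_mul]
      exact hW'
    · have hb : V' = ⊤ := Submodule.eq_top_of_finrank_eq (by rw [e, h1])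
      refine absurd ⟨hb, ?_⟩ htop
      rw [eq_top_iff]
      intro w _
      obtain ⟨v, rfl⟩ := ((semistable_iff_sum f hV hW).mp h).2 w
      exact W'.sum_mem fun j _ => hs j ⟨v j, hb ▸ Submodule.mem_top, rfl⟩

lemma stable_iff_pi (f : Fin n → (V →ₗ[K] W)) (hW : 0 < finrank K W)
    (hV : finrank K V = n * finrank K W) :
    IsStable f ↔ (IsSemistable f ∧ finrank K W = 1) := by
  constructor
  · intro h
    refine ⟨semistable_of_stable h, ?_⟩
    by_contra hne
    obtain ⟨w, hw⟩ : ∃ w : W, w ≠ 0 := Module.finrank_pos_iff_exists_ne_zero.mp hW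
    have hl : finrank K (K ∙ w) = 1 := finrank_span_singleton hw
    let V' : Submodule K V := ⨅ j, (K ∙ w).comap (f j)
    let E := LinearEquiv.ofBijective (LinearMap.pi f) ((semistable_iff_pi f hW hV).mp (semistable_of_stable h))
    have hmem : ∀ x, (E.symm.toLinearMap ∘ₗ powIncl (K ∙ w) n) x ∈ V' := fun x => by
      refine (Submodule.mem_iInf _).mpr fun j => ?_
      have := congrFun (E.apply_symm_apply (powIncl (K ∙ w) n x)) j
      change f j (E.symm _) ∈ K ∙ w
      rw [show f j (E.symm (powIncl (K ∙ w) n x)) = powIncl (K ∙ w) n x j from this]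
      exact (x j).2
    have hge := LinearMap.finrank_le_finrank_of_injective
      (f := (E.symm.toLinearMap ∘ₗ powIncl (K ∙ w) n).codRestrict V' hmem)
      (fun a b e => powIncl_injective _ n (E.symm.injective (congrArg Subtype.val e)))
    rw [finrank_pow, hl, mul_one] at hge
    have h2 := h.2 V' (K ∙ w) (fun j => by
      rintro _ ⟨v, hv, rfl⟩
      exact (Submodule.mem_iInf _).mp hv j)
      (fun e => by rw [e.2, finrank_bot] at hl; omega) (fun e => hne (by rw [← hl, e.2, finrank_top]))
    rw [hl, hV, mul_one] at h2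
    have h4 := Nat.mul_le_mul_left (finrank K W) hge
    rw [mul_comm n] at h2
    omega
  · rintro ⟨h, h1⟩
    refine ⟨h.1, fun V' W' hs hbot htop => ?_⟩
    have hle : finrank K W' ≤ 1 := h1 ▸ Submodule.finrank_le W'
    rcases Nat.le_one_iff_eq_zero_or_eq_one.mp hle with e | e
    · have hb : W' = ⊥ := Submodule.finrank_eq_zero.mp e
      refine absurd ⟨?_, hb⟩ hbot
      rw [eq_bot_iff]
      intro v hv
      refine ((semistable_iff_pi f hW hV).mp h).1 (funext fun j => ?_)
      have := hs j ⟨v, hv, rfl⟩
      rw [hb, Submodule.mem_bot] at this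
      simpa using this
    · have hb : W' = ⊤ := Submodule.eq_top_of_finrank_eq (by rw [e, h1])
      rw [e, h1, one_mul, mul_one]
      exact lt_of_le_of_ne (Submodule.finrank_le V') fun e' =>
        htop ⟨Submodule.eq_top_of_finrank_eq e', hb⟩

lemma exists_sum (hV : 0 < finrank K V) (hW : finrank K W = n * finrank K V) :
    (∃ f : Fin n → (V →ₗ[K] W), IsSemistable f) ∧
      ∀ f f' : Fin n → (V →ₗ[K] W), IsSemistable f → IsSemistable f' → AreIso f f' := by
  constructor
  · let E : (Fin n → V) ≃ₗ[K] W := LinearEquiv.ofFinrankEq _ _ (by rw [finrank_pow, hW])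
    refine ⟨fun j => E.toLinearMap ∘ₗ LinearMap.single K (fun _ : Fin n => V) j, ?_⟩
    rw [semistable_iff_sum _ hV hW]
    have : (fun v : Fin n → V => ∑ j, (E.toLinearMap ∘ₗ LinearMap.single K (fun _ : Fin n => V) j) (v j)) = E := by
      funext v
      simp only [LinearMap.comp_apply, LinearEquiv.coe_coe, ← map_sum, LinearMap.single_apply]
      rw [Finset.univ_sum_single]
    rw [this]
    exact E.bijective
  · intro f f' h h'
    have e := (semistable_iff_sum f hV hW).mp h
    have e' := (semistable_iff_sum f' hV hW).mp h'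
    rw [← sumMap_coe] at e e'
    refine ⟨LinearEquiv.refl K V, (LinearEquiv.ofBijective _ e).symm.trans (LinearEquiv.ofBijective _ e'),
      fun j => ?_⟩
    refine LinearMap.ext fun v => ?_
    have hs : ∀ g : Fin n → (V →ₗ[K] W), sumMap g (Pi.single j v) = g j v := fun g => by
      simp only [sumMap_coe]
      rw [Finset.sum_eq_single j (fun i _ hi => by simp [Pi.single_eq_of_ne hi]) (by simp), Pi.single_eq_same]
    simp only [LinearMap.comp_apply, LinearEquiv.coe_coe, LinearEquiv.trans_apply, LinearEquiv.refl_apply]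
    rw [← hs f, ← hs f']
    rw [show (LinearEquiv.ofBijective _ e).symm (sumMap f (Pi.single j v)) = Pi.single j v from
      (LinearEquiv.ofBijective _ e).symm_apply_apply _]
    rfl

lemma exists_pi (hW : 0 < finrank K W) (hV : finrank K V = n * finrank K W) :
    (∃ f : Fin n → (V →ₗ[K] W), IsSemistable f) ∧
      ∀ f f' : Fin n → (V →ₗ[K] W), IsSemistable f → IsSemistable f' → AreIso f f' := by
  constructor
  · let E : V ≃ₗ[K] (Fin n → W) := LinearEquiv.ofFinrankEq _ _ (by rw [finrank_pow, hV])
    refine ⟨fun j => LinearMap.proj j ∘ₗ E.toLinearMap, ?_⟩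
    rw [semistable_iff_pi _ hW hV]
    exact E.bijective
  · intro f f' h h'
    have e : Function.Bijective (LinearMap.pi f) := (semistable_iff_pi f hW hV).mp h
    have e' : Function.Bijective (LinearMap.pi f') := (semistable_iff_pi f' hW hV).mp h'
    refine ⟨(LinearEquiv.ofBijective _ e).trans (LinearEquiv.ofBijective _ e').symm, LinearEquiv.refl K W,
      fun j => LinearMap.ext fun v => ?_⟩
    exact (congrFun ((LinearEquiv.ofBijective _ e').apply_symm_apply (LinearMap.pi f v)) j).symm

lemma semistable_of_bijective (f : Fin n → (V →ₗ[K] W)) (k : ℕ) (hk : 1 ≤ k)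
    (hV : finrank K V = k) (hW : finrank K W = k) (z : Fin n → K)
    (hz : Function.Bijective ((∑ j, z j • f j : V →ₗ[K] W) : V → W)) : IsSemistable f := by
  refine ⟨by omega, fun V' W' hs _ _ => ?_⟩
  have hmem : ∀ v : V', ((∑ j, z j • f j : V →ₗ[K] W) ∘ₗ V'.subtype) v ∈ W' := fun v => by
    simp only [LinearMap.comp_apply, LinearMap.coe_sum, Finset.sum_apply, LinearMap.smul_apply]
    exact W'.sum_mem fun j _ => W'.smul_mem _ (hs j ⟨_, v.2, rfl⟩)
  have hle := LinearMap.finrank_le_finrank_of_injective
    (f := ((∑ j, z j • f j : V →ₗ[K] W) ∘ₗ V'.subtype).codRestrict W' hmem)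
    (fun a b e => Subtype.ext (hz.1 (congrArg Subtype.val e)))
  rw [hV, hW]
  exact Nat.mul_le_mul_left _ hle

lemma exists_bijective_two [IsAlgClosed K] (f : Fin 2 → (V →ₗ[K] W)) (k : ℕ)
    (hV : finrank K V = k) (hW : finrank K W = k) (hf : IsSemistable f) :
    ∃ z : Fin 2 → K, Function.Bijective ((∑ j, z j • f j : V →ₗ[K] W) : V → W) := by
  classical
  by_contra hno
  push Not at hno
  let bV := finBasisOfFinrankEq K V hV
  let bW := finBasisOfFinrankEq K W hW
  let A := LinearMap.toMatrix bV bW (f 0)
  let B := LinearMap.toMatrix bV bW (f 1)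
  let M : Matrix (Fin k) (Fin k) (Polynomial K) :=
    A.map Polynomial.C + (Polynomial.X : Polynomial K) • B.map Polynomial.C
  have hdet : M.det = 0 := by
    refine Polynomial.funext fun t => ?_
    rw [Polynomial.eval_zero, ← Polynomial.coe_evalRingHom, RingHom.map_det]
    have e : (Polynomial.evalRingHom t).mapMatrix M = A + t • B := by
      ext i j
      simp only [M, RingHom.mapMatrix_apply, Matrix.map_apply, Matrix.add_apply, Matrix.smul_apply,
        smul_eq_mul, Polynomial.coe_evalRingHom, Polynomial.eval_add, Polynomial.eval_mul,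
        Polynomial.eval_X, Polynomial.eval_C]
    rw [e]
    by_contra hne
    refine hno ![1, t] ?_
    rw [Fin.sum_univ_two]
    simp only [Matrix.cons_val_zero, Matrix.cons_val_one, one_smul]
    have hu : IsUnit (LinearMap.toMatrix bV bW (f 0 + t • f 1)).det := by
      rw [map_add, map_smul]
      exact isUnit_iff_ne_zero.mpr hne
    exact (LinearEquiv.ofIsUnitDet hu).bijective
  obtain ⟨P, hP0, hP⟩ := Matrix.exists_mulVec_eq_zero_iff.mpr hdet
  let v : ℕ → V := fun i => bV.equivFun.symm fun j => (P j).coeff i
  have hmul : ∀ g : V →ₗ[K] W, ∀ i,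
      bW.equivFun (g (v i)) = (LinearMap.toMatrix bV bW g).mulVec fun j => (P j).coeff i := fun g i => by
    have e := LinearMap.toMatrix_mulVec_repr bV bW g (v i)
    rw [show ⇑(bV.repr (v i)) = fun j => (P j).coeff i from bV.equivFun.apply_symm_apply _] at e
    exact e.symm
  have hrel : ∀ i, f 0 (v (i + 1)) + f 1 (v i) = 0 := fun i => by
    refine bW.equivFun.injective ?_
    rw [map_add, map_zero, hmul, hmul]
    funext r
    have := congrArg (fun q => Polynomial.coeff q (i + 1)) (congrFun hP r)
    simpa [M, A, B, Matrix.mulVec, dotProduct, add_mul, Finset.sum_add_distrib, Polynomial.finsetSum_coeff,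
      Polynomial.coeff_C_mul, mul_assoc, Polynomial.coeff_X_mul] using this
  have h0 : f 0 (v 0) = 0 := by
    refine bW.equivFun.injective ?_
    rw [map_zero, hmul]
    funext r
    have := congrArg (fun q => Polynomial.coeff q 0) (congrFun hP r)
    simpa [M, A, Matrix.mulVec, dotProduct, add_mul, Finset.sum_add_distrib, Polynomial.finsetSum_coeff,
      Polynomial.coeff_C_mul, mul_assoc, Polynomial.coeff_X_mul_zero] using this
  obtain ⟨j₀, hj₀⟩ := Function.ne_iff.mp hP0
  let d := Finset.univ.sup fun j => (P j).natDegree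
  have hd : ∀ i, d < i → v i = 0 := fun i hi => by
    refine bV.equivFun.injective ?_
    rw [map_zero]
    simp only [v, LinearEquiv.apply_symm_apply]
    funext j
    exact Polynomial.coeff_eq_zero_of_natDegree_lt
      (lt_of_le_of_lt (Finset.le_sup (f := fun j => (P j).natDegree) (Finset.mem_univ j)) hi)
  let s := (Finset.range (d + 1)).filter fun i => v i ≠ 0
  have hs : s.Nonempty := by
    refine ⟨(P j₀).natDegree, Finset.mem_filter.mpr ⟨Finset.mem_range.mpr (Nat.lt_succ_of_le
      (Finset.le_sup (f := fun j => (P j).natDegree) (Finset.mem_univ j₀))), fun e => ?_⟩⟩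
    have := congrFun (congrArg bV.equivFun e) j₀
    simp only [v, LinearEquiv.apply_symm_apply, map_zero, Pi.zero_apply] at this
    exact hj₀ (Polynomial.leadingCoeff_eq_zero.mp this)
  let m := s.max' hs
  have hm : v m ≠ 0 := (Finset.mem_filter.mp (s.max'_mem hs)).2
  have hm1 : v (m + 1) = 0 := by
    by_contra hne
    have hlt : m + 1 ≤ d := by
      by_contra h'
      exact hne (hd _ (by omega))
    have := s.le_max' (m + 1) (Finset.mem_filter.mpr ⟨Finset.mem_range.mpr (by omega), hne⟩)
    change m + 1 ≤ m at this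
    omega
  let V' := Submodule.span K (Set.range v)
  let W' := V'.map (f 1)
  have hsub : IsSubrep f V' W' := by
    intro j
    fin_cases j
    · change V'.map (f 0) ≤ W'
      rw [Submodule.map_span_le]
      rintro _ ⟨i, rfl⟩
      rcases i with _ | i
      · rw [h0]; exact W'.zero_mem
      · rw [eq_neg_of_add_eq_zero_left (hrel i)]
        exact W'.neg_mem ⟨v i, Submodule.subset_span ⟨i, rfl⟩, rfl⟩
    · exact le_rfl
  have hker : f 1 (v m) = 0 := by simpa [hm1] using hrel m
  have hlt : finrank K W' < finrank K V' := by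
    have hrn := LinearMap.finrank_range_add_finrank_ker ((f 1) ∘ₗ V'.subtype)
    rw [LinearMap.range_comp, Submodule.range_subtype] at hrn
    have : 0 < finrank K (LinearMap.ker ((f 1) ∘ₗ V'.subtype)) :=
      Module.finrank_pos_iff_exists_ne_zero.mpr ⟨⟨⟨v m, Submodule.subset_span ⟨m, rfl⟩⟩, by simpa using hker⟩,
        fun e => hm (congrArg (fun x => (x.1 : V)) e)⟩
    change finrank K W' + _ = _ at hrn
    omega
  have h2 := hf.2 V' W' hsub
    (fun e => hm ((Submodule.mem_bot K).mp (e.1 ▸ (Submodule.subset_span ⟨m, rfl⟩ : v m ∈ V'))))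
    (fun e => by rw [e.1, e.2, finrank_top, finrank_top, hV, hW] at hlt; omega)
  rw [hV, hW] at h2
  have hk : 0 < k := by
    have := Submodule.finrank_le V'
    omega
  exact absurd (Nat.le_of_mul_le_mul_left h2 hk) (by omega)

lemma not_stable_two [IsAlgClosed K] (f : Fin 2 → (V →ₗ[K] W)) (k : ℕ) (hk : 2 ≤ k)
    (hV : finrank K V = k) (hW : finrank K W = k) : ¬ IsStable f := by
  intro h
  obtain ⟨z, hz⟩ := exists_bijective_two f k hV hW (semistable_of_stable h)
  let P := LinearEquiv.ofBijective _ hz
  have : Nontrivial V := Module.nontrivial_of_finrank_pos (R := K) (by omega)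
  obtain ⟨i, j, hij, hzi⟩ : ∃ i j : Fin 2, i ≠ j ∧ z i ≠ 0 := by
    by_cases h0 : z 0 = 0
    · refine ⟨1, 0, by decide, fun h1 => ?_⟩
      obtain ⟨v, hv⟩ := exists_ne (0 : V)
      refine hv (hz.1 ?_)
      simp [Fin.sum_univ_two, h0, h1]
    · exact ⟨0, 1, by decide, h0⟩
  obtain ⟨μ, hμ⟩ := Module.End.exists_eigenvalue (P.symm.toLinearMap ∘ₗ f j)
  obtain ⟨v, hv, hv0⟩ := hμ.exists_hasEigenvector
  have hj : f j v = μ • P v := by
    have := congrArg P (Module.End.mem_eigenspace_iff.mp hv)
    rwa [map_smul, LinearMap.comp_apply, LinearEquiv.coe_coe, P.apply_symm_apply] at this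
  have hP : P v = z i • f i v + z j • f j v := by
    change (∑ l, z l • f l : V →ₗ[K] W) v = _
    simp only [LinearMap.coe_sum, Finset.sum_apply, LinearMap.smul_apply, Fin.sum_univ_two]
    fin_cases i <;> fin_cases j <;> simp_all [add_comm]
  have hi : f i v ∈ K ∙ P v := by
    have e : f i v = (z i)⁻¹ • (P v - z j • f j v) := by
      rw [hP, add_sub_cancel_right, smul_smul, inv_mul_cancel₀ hzi, one_smul]
    rw [e, hj]
    exact Submodule.smul_mem _ _ (Submodule.sub_mem _ (Submodule.mem_span_singleton_self _)
      (Submodule.smul_mem _ _ (Submodule.smul_mem _ _ (Submodule.mem_span_singleton_self _))))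
  have hPv : P v ≠ 0 := fun e => hv0 (P.injective (by rw [e, map_zero]))
  have h2 := h.2 (K ∙ v) (K ∙ P v) (fun l => by
    rw [Submodule.map_span_le]
    rintro _ rfl
    have : l = i ∨ l = j := by omega
    rcases this with rfl | rfl
    · exact hi
    · rw [hj]; exact Submodule.smul_mem _ _ (Submodule.mem_span_singleton_self _))
    (fun e => hv0 (Submodule.span_singleton_eq_bot.mp e.1))
    (fun e => by
      have := finrank_span_singleton (K := K) hv0
      rw [e.1, finrank_top, hV] at this
      omega)
  rw [finrank_span_singleton hv0, finrank_span_singleton hPv, hV, hW] at h2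
  omega

lemma exists_bijective_dim_two [IsAlgClosed K] (f : Fin n → (V →ₗ[K] W)) (hV : finrank K V = 2)
    (hW : finrank K W = 2) (hf : IsSemistable f) :
    ∃ z : Fin n → K, Function.Bijective ((∑ j, z j • f j : V →ₗ[K] W) : V → W) := by
  classical
  by_contra hno
  have hd : finrank K V = finrank K W := by rw [hV, hW]
  have hg : ∀ g : V →ₗ[K] W, (∃ z : Fin n → K, g = ∑ j, z j • f j) → finrank K (LinearMap.range g) ≤ 1 := by
    rintro g ⟨z, rfl⟩
    by_contra hgt
    refine hno ⟨z, ?_⟩
    have hs : Function.Surjective ((∑ j, z j • f j : V →ₗ[K] W)) :=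
      LinearMap.range_eq_top.mp (Submodule.eq_top_of_finrank_eq
        (le_antisymm (Submodule.finrank_le _) (by omega)))
    exact ⟨(LinearMap.injective_iff_surjective_of_finrank_eq_finrank hd).mpr hs, hs⟩
  have hone : ∀ i, ∃ z : Fin n → K, f i = ∑ j, z j • f j := fun i => ⟨Pi.single i 1, by simp [Pi.single_apply]⟩
  have hpair : ∀ i j, ∃ z : Fin n → K, f i + f j = ∑ l, z l • f l := fun i j =>
    ⟨Pi.single i 1 + Pi.single j 1, by simp [Pi.single_apply, add_smul, Finset.sum_add_distrib]⟩
  have hker : ∀ v : V, v ≠ 0 → ∃ j, f j v ≠ 0 := by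
    intro v hv
    by_contra hall
    push Not at hall
    have h2 := hf.2 (K ∙ v) ⊥ (fun j => by
      rw [Submodule.map_span_le]
      rintro _ rfl
      rw [hall j]
      exact Submodule.zero_mem _)
      (fun e => hv (Submodule.span_singleton_eq_bot.mp e.1))
      (fun e => by
        have := finrank_top K W
        rw [← e.2, finrank_bot, hW] at this
        omega)
    rw [finrank_span_singleton hv, finrank_bot, hV, hW] at h2
    omega
  have hrange : ∀ W' : Submodule K W, finrank K W' ≤ 1 → ∃ j, ¬ LinearMap.range (f j) ≤ W' := by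
    intro W' hW'
    by_contra hall
    push Not at hall
    have h2 := hf.2 ⊤ W' (fun j => le_trans LinearMap.map_le_range (hall j))
      (fun e => by
        have := finrank_top K V
        rw [e.1, finrank_bot, hV] at this
        omega)
      (fun e => by rw [e.2, finrank_top, hW] at hW'; omega)
    rw [finrank_top, hV, hW] at h2
    omega
  have : Nontrivial V := Module.nontrivial_of_finrank_pos (R := K) (by omega)
  obtain ⟨v₀, hv₀⟩ := exists_ne (0 : V)
  obtain ⟨i, hi⟩ := hker v₀ hv₀
  set w := LinearMap.range (f i) with hw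
  obtain ⟨a, ha, ha0⟩ : ∃ a, f i a = 0 ∧ a ≠ 0 := by
    by_contra hall
    push Not at hall
    have hinj : Function.Injective (f i) := LinearMap.ker_eq_bot.mp
      ((Submodule.eq_bot_iff _).mpr fun x hx => hall x (LinearMap.mem_ker.mp hx))
    have h1 := hg _ (hone i)
    rw [LinearMap.finrank_range_of_inj hinj, hV] at h1
    omega
  have line : ∀ (g : V →ₗ[K] W), finrank K (LinearMap.range g) ≤ 1 → ∀ x, g x ≠ 0 →
      LinearMap.range g = K ∙ g x := fun g hg x hx =>
    (Submodule.eq_of_le_of_finrank_le ((Submodule.span_singleton_le_iff_mem (g x) (LinearMap.range g)).mpr ⟨x, rfl⟩)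
      (by rw [finrank_span_singleton hx]; exact hg)).symm
  have hmemw : ∀ j, f j a ∈ w := by
    intro j
    by_contra hj
    have hne : f j a ≠ 0 := fun e => hj (e ▸ w.zero_mem)
    have hu := line (f j) (hg _ (hone j)) a hne
    set g := f i + f j
    have hga : g a = f j a := by simp [g, ha]
    have hgl := line g (hg _ (hpair i j)) a (hga ▸ hne)
    rw [hga] at hgl
    have hle : w ≤ LinearMap.range g := by
      rintro _ ⟨x, rfl⟩
      have : f i x = g x - f j x := by simp [g]
      rw [this]
      exact Submodule.sub_mem _ ⟨x, rfl⟩ (by rw [hgl, ← hu]; exact ⟨x, rfl⟩)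
    rw [hgl, ← hu] at hle
    have hwj : w = LinearMap.range (f j) := Submodule.eq_of_le_of_finrank_le hle
      (le_trans (hg _ (hone j)) (Module.finrank_pos_iff_exists_ne_zero.mpr
        ⟨⟨f i v₀, v₀, rfl⟩, fun e => hi (congrArg Subtype.val e)⟩))
    exact hj (hwj ▸ ⟨a, rfl⟩)
  obtain ⟨j₀, hj₀⟩ := hrange w (hg _ (hone i))
  obtain ⟨j₁, hj₁⟩ := hker a ha0
  have hj₀a : f j₀ a = 0 := by
    by_contra hne
    exact hj₀ ((line _ (hg _ (hone j₀)) a hne).symm ▸ (Submodule.span_singleton_le_iff_mem _ _).mpr (hmemw j₀))
  have hw₁ : LinearMap.range (f j₁) ≤ w :=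
    (line _ (hg _ (hone j₁)) a hj₁).symm ▸ (Submodule.span_singleton_le_iff_mem _ _).mpr (hmemw j₁)
  obtain ⟨b, hb⟩ : ∃ b, f j₀ b ∉ w := by
    by_contra hall
    push Not at hall
    exact hj₀ (by rintro _ ⟨x, rfl⟩; exact hall x)
  have hgl := line (f j₀ + f j₁) (hg _ (hpair j₀ j₁)) a (by simpa [hj₀a] using hj₁)
  have hmem : (f j₀ + f j₁) b ∈ w := by
    have : (f j₀ + f j₁) b ∈ LinearMap.range (f j₀ + f j₁) := ⟨b, rfl⟩
    rw [hgl] at this
    refine (Submodule.span_singleton_le_iff_mem _ _).mpr ?_ this
    simpa [hj₀a] using hmemw j₁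
  refine hb ?_
  simpa using w.sub_mem hmem (hw₁ ⟨b, rfl⟩)

lemma dual_iff (f : Fin n → (V →ₗ[K] W)) :
    (IsSemistable f ↔ IsSemistable (fun j => (f j).dualMap)) ∧
      (IsStable f ↔ IsStable (fun j => (f j).dualMap)) := by
  have hdV : finrank K (Dual K V) = finrank K V := Subspace.dual_finrank_eq
  have hdW : finrank K (Dual K W) = finrank K W := Subspace.dual_finrank_eq
  -- annihilators
  have fwd : ∀ (V' : Submodule K V) (W' : Submodule K W), IsSubrep f V' W' →
      IsSubrep (fun j => (f j).dualMap) W'.dualAnnihilator V'.dualAnnihilator := by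
    rintro V' W' hs j _ ⟨φ, hφ, rfl⟩
    rw [Submodule.mem_dualAnnihilator]
    intro x hx
    exact (Submodule.mem_dualAnnihilator _).mp hφ _ (hs j ⟨x, hx, rfl⟩)
  have bwd : ∀ (P : Submodule K (Dual K W)) (Q : Submodule K (Dual K V)),
      IsSubrep (fun j => (f j).dualMap) P Q → IsSubrep f Q.dualCoannihilator P.dualCoannihilator := by
    rintro P Q hs j _ ⟨x, hx, rfl⟩
    rw [Submodule.mem_dualCoannihilator]
    intro φ hφ
    exact (Submodule.mem_dualCoannihilator x).mp hx _ (hs j ⟨φ, hφ, rfl⟩)
  have aV := fun V' : Submodule K V => Subspace.finrank_add_finrank_dualAnnihilator_eq V'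
  have aW := fun W' : Submodule K W => Subspace.finrank_add_finrank_dualAnnihilator_eq W'
  have cV := fun Q : Submodule K (Dual K V) => Subspace.finrank_add_finrank_dualCoannihilator_eq Q
  have cW := fun P : Submodule K (Dual K W) => Subspace.finrank_add_finrank_dualCoannihilator_eq P
  constructor
  · constructor
    · rintro ⟨h0, h⟩
      refine ⟨by omega, fun P Q hs hb ht => ?_⟩
      have := cV Q
      have := cW P
      have h2 := h _ _ (bwd P Q hs)
        (fun e => ht ⟨Submodule.eq_top_of_finrank_eq (by have := congrArg (fun S : Submodule K _ => finrank K S) e.2; simp only [finrank_bot] at this; omega),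
          Submodule.eq_top_of_finrank_eq (by have := congrArg (fun S : Submodule K _ => finrank K S) e.1; simp only [finrank_bot] at this; omega)⟩)
        (fun e => hb ⟨Submodule.finrank_eq_zero.mp (by have := congrArg (fun S : Submodule K _ => finrank K S) e.2; simp only [finrank_top] at this; omega),
          Submodule.finrank_eq_zero.mp (by have := congrArg (fun S : Submodule K _ => finrank K S) e.1; simp only [finrank_top] at this; omega)⟩)
      rw [hdV, hdW]
      nlinarith
    · rintro ⟨h0, h⟩
      refine ⟨by omega, fun V' W' hs hb ht => ?_⟩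
      have := aV V'
      have := aW W'
      have h2 := h _ _ (fwd V' W' hs)
        (fun e => ht ⟨Submodule.eq_top_of_finrank_eq (by have := congrArg (fun S : Submodule K _ => finrank K S) e.2; simp only [finrank_bot] at this; omega),
          Submodule.eq_top_of_finrank_eq (by have := congrArg (fun S : Submodule K _ => finrank K S) e.1; simp only [finrank_bot] at this; omega)⟩)
        (fun e => hb ⟨Submodule.finrank_eq_zero.mp (by have := congrArg (fun S : Submodule K _ => finrank K S) e.2; simp only [finrank_top] at this; omega),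
          Submodule.finrank_eq_zero.mp (by have := congrArg (fun S : Submodule K _ => finrank K S) e.1; simp only [finrank_top] at this; omega)⟩)
      rw [hdV, hdW] at h2
      nlinarith
  · constructor
    · rintro ⟨h0, h⟩
      refine ⟨by omega, fun P Q hs hb ht => ?_⟩
      have := cV Q
      have := cW P
      have h2 := h _ _ (bwd P Q hs)
        (fun e => ht ⟨Submodule.eq_top_of_finrank_eq (by have := congrArg (fun S : Submodule K _ => finrank K S) e.2; simp only [finrank_bot] at this; omega),
          Submodule.eq_top_of_finrank_eq (by have := congrArg (fun S : Submodule K _ => finrank K S) e.1; simp only [finrank_bot] at this; omega)⟩)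
        (fun e => hb ⟨Submodule.finrank_eq_zero.mp (by have := congrArg (fun S : Submodule K _ => finrank K S) e.2; simp only [finrank_top] at this; omega),
          Submodule.finrank_eq_zero.mp (by have := congrArg (fun S : Submodule K _ => finrank K S) e.1; simp only [finrank_top] at this; omega)⟩)
      rw [hdV, hdW]
      nlinarith
    · rintro ⟨h0, h⟩
      refine ⟨by omega, fun V' W' hs hb ht => ?_⟩
      have := aV V'
      have := aW W'
      have h2 := h _ _ (fwd V' W' hs)
        (fun e => ht ⟨Submodule.eq_top_of_finrank_eq (by have := congrArg (fun S : Submodule K _ => finrank K S) e.2; simp only [finrank_bot] at this; omega),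
          Submodule.eq_top_of_finrank_eq (by have := congrArg (fun S : Submodule K _ => finrank K S) e.1; simp only [finrank_bot] at this; omega)⟩)
        (fun e => hb ⟨Submodule.finrank_eq_zero.mp (by have := congrArg (fun S : Submodule K _ => finrank K S) e.2; simp only [finrank_top] at this; omega),
          Submodule.finrank_eq_zero.mp (by have := congrArg (fun S : Submodule K _ => finrank K S) e.1; simp only [finrank_top] at this; omega)⟩)
      rw [hdV, hdW] at h2
      nlinarith

end KronLib
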